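import Groth.Agent.Lib.DistSq15.Cover
import Groth.Prelude.Def_AlgSpSub

/-!
# Elementary distinguished squares: gluing of morphisms and of separatedness
-/

universe u

set_option backward.isDefEq.respectTransparency.types false

open CategoryTheory CategoryTheory.Limits AlgebraicGeometry Opposite

namespace Groth.Agent.DistSq15

open AlgSp AlgSpace AlgSpDecent

variable {S : Scheme.{u}}

theorem mono_of_openImm {U W : Sp S} {j : U ⟶ W} (hj : RepWith @IsOpenImmersion j) : Mono j :=
  mono_of_isImmersion (repWith_mono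
    (fun A B g (hg : IsOpenImmersion g) => (inferInstance : IsImmersion g)) hj)

/-- Points of a distinguished square are covered by the two sides. -/
theorem mem_range_or {U V W : Sp S} {j : U ⟶ W} {f : V ⟶ W} (hsq : IsElemDistSq j f) (x : Points W) :
    x ∈ Set.range (Points.map j) ∨ x ∈ Set.range (Points.map f) := by
  obtain ⟨-, -, T, P, i, p₁, p₂, ⟨-, hrange, -⟩, sq, hiso⟩ := hsq
  rcases Classical.em (x ∈ Set.range (Points.map j)) with h | h
  · exact Or.inl h
  · obtain ⟨t, rfl⟩ : x ∈ Set.range (Points.map i) := by rw [hrange]; exact h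
    refine Or.inr ⟨Points.map p₂ (Points.map (inv p₁) t), ?_⟩
    rw [← Function.comp_apply (f := Points.map f), ← map_comp_eq, ← sq.w, map_comp_eq,
      Function.comp_apply]
    congr 1
    rw [← Function.comp_apply (f := Points.map p₁), ← map_comp_eq, IsIso.inv_hom_id, Points.map_id]

/-- Over a point outside `U`, lifts to `V` of a field-valued point are unique. -/
theorem eq_of_field_outside {U V W : Sp S} {j : U ⟶ W} {f : V ⟶ W} (hsq : IsElemDistSq j f)
    {k : Type u} [Field k] {w : Spec (CommRingCat.of k) ⟶ S}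
    (x y : (yon S).obj (Over.mk w) ⟶ V) (e : x ≫ f = y ≫ f) (t : ↥(Over.mk w).left)
    (ht : Points.ofPt (x ≫ f) t ∉ Set.range (Points.map j)) : x = y := by
  obtain ⟨-, -, T, P, i, p₁, p₂, ⟨hi, hrange, -⟩, sq, hiso⟩ := hsq
  obtain ⟨z, hz⟩ : Points.ofPt (x ≫ f) t ∈ Set.range (Points.map i) := by rw [hrange]; exact ht
  have sqi := hi.1.isPullback (x ≫ f)
  have : IsClosedImmersion (hi.1.snd (x ≫ f)).left := hi.2 (x ≫ f) _ _ sqi
  have : Surjective (hi.1.snd (x ≫ f)).left := ⟨fun s => by
    obtain ⟨v, -, hv⟩ := exists_pt_of_isPullback sqi hz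
    have : Subsingleton ↥(Over.mk w).left := inferInstanceAs (Subsingleton ↥(Spec (CommRingCat.of k)))
    exact ⟨v, Subsingleton.elim _ _⟩⟩
  have : IsReduced (Over.mk w).left := inferInstanceAs (IsReduced (Spec (CommRingCat.of k)))
  have : IsIso (hi.1.snd (x ≫ f)).left := isIso_of_isClosedImmersion_of_surjective _
  have : IsIso (hi.1.snd (x ≫ f)) := by
    have : IsIso ((Over.forget S).map (hi.1.snd (x ≫ f))) := ‹_›
    exact isIso_of_reflects_iso _ (Over.forget S)
  let b : (yon S).obj (Over.mk w) ⟶ T := (yon S).map (inv (hi.1.snd (x ≫ f))) ≫ hi.1.fst (x ≫ f)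
  have hb : b ≫ i = x ≫ f := by
    simp only [b, Category.assoc, sqi.w]
    rw [← Functor.map_comp_assoc, IsIso.inv_hom_id, CategoryTheory.Functor.map_id, Category.id_comp]
  have hl : sq.lift b x hb = sq.lift b y (hb.trans e) := by
    rw [← cancel_mono p₁, sq.lift_fst, sq.lift_fst]
  rw [← sq.lift_snd b x hb, hl, sq.lift_snd]

/-- Maps out of the base of a distinguished square glue. -/
theorem existsUnique_glue_square {U V W : Space S} {j : U.obj ⟶ W.obj} {f : V.obj ⟶ W.obj}
    (hsq : IsElemDistSq j f) {P : Sp S} {p : P ⟶ U.obj} {q : P ⟶ V.obj} (hP : IsPullback p q j f)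
    {Z : Sp S} (u : U.obj ⟶ Z) (v : V.obj ⟶ Z) (e : p ≫ u = q ≫ v) :
    ∃! g : W.obj ⟶ Z, j ≫ g = u ∧ f ≫ g = v := by
  have hj := hsq.1
  have := mono_of_openImm hj
  have hd : RepWith @IsOpenImmersion (pullback.diagonal f) :=
    repWith_diagonal_isOpenImmersion_of_unramified V.property W.property
      (locP_mono (le_inf AlgSpDescent.etale_le_lft AlgSpDescent.etale_le_fu)
        (AlgSpDescent.locP_etale_of_isEtaleMor hsq.2.1))
  have hUV : ∀ {T : Over S} (x : (yon S).obj T ⟶ U.obj) (y : (yon S).obj T ⟶ V.obj),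
      x ≫ j = y ≫ f → x ≫ u = y ≫ v := fun x y h => by
    rw [← hP.lift_fst x y h, Category.assoc, e, ← Category.assoc, hP.lift_snd]
  have hVV : ∀ {T : Over S} (x y : (yon S).obj T ⟶ V.obj),
      x ≫ f = y ≫ f → x ≫ v = y ≫ v := by
    intro T x y h
    have sq₁ := hj.1.isPullback (x ≫ f)
    have sq₂ := hd.1.isPullback (pullback.lift x y h)
    have h₁ : IsOpenImmersion (hj.1.snd (x ≫ f)).left := hj.2 _ _ _ sq₁
    have h₂ : IsOpenImmersion (hd.1.snd (pullback.lift x y h)).left := hd.2 _ _ _ sq₂
    let π : ∀ b : ULift.{u} Bool, cond b.down (hj.1.pullback (x ≫ f))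
        (hd.1.pullback (pullback.lift x y h)) ⟶ T := fun b =>
      match b with
      | ⟨true⟩ => hj.1.snd (x ≫ f)
      | ⟨false⟩ => hd.1.snd (pullback.lift x y h)
    refine hom_ext_glue π (fun b => by rcases b with ⟨_ | _⟩ <;> assumption) (fun t => ?_) fun b => ?_
    · rcases Classical.em (Points.ofPt (x ≫ f) t ∈ Set.range (Points.map j)) with ht | ht
      · obtain ⟨z, hz⟩ := ht
        obtain ⟨v', -, hv'⟩ := exists_pt_of_isPullback sq₁ hz
        exact ⟨⟨true⟩, v', hv'⟩
      · let w : Spec (CommRingCat.of (T.left.residueField t)) ⟶ S :=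
          T.left.fromSpecResidueField t ≫ T.hom
        let s : Over.mk w ⟶ T := CategoryTheory.Over.homMk (T.left.fromSpecResidueField t) rfl
        let o : ↥(Over.mk w).left := IsLocalRing.closedPoint (T.left.residueField t)
        have hs : s.left o = t := Scheme.fromSpecResidueField_apply t o
        have hxy := eq_of_field_outside hsq ((yon S).map s ≫ x) ((yon S).map s ≫ y)
          (by rw [Category.assoc, Category.assoc, h]) o (by
            rw [Category.assoc, ofPt_map_comp, hs]; exact ht)
        obtain ⟨v', -, hv'⟩ := exists_pt_of_isPullback sq₂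
          (x := Points.ofPt ((yon S).map s ≫ x) o) (t := t) (by
            refine (Points.map_ofPt _ _ o).trans (Eq.trans ?_
              ((ofPt_map_comp s (pullback.lift x y h) o).trans (congrArg _ hs)))
            congr 1
            apply pullback.hom_ext
            · simp [pullback.lift_fst]
            · simp [hxy, pullback.lift_snd])
        exact ⟨⟨false⟩, v', hv'⟩
    · rcases b with ⟨_ | _⟩
      · change (yon S).map (hd.1.snd (pullback.lift x y h)) ≫ x ≫ v =
          (yon S).map (hd.1.snd (pullback.lift x y h)) ≫ y ≫ v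
        have e₁ := congrArg (· ≫ pullback.fst f f) sq₂.w
        have e₂ := congrArg (· ≫ pullback.snd f f) sq₂.w
        simp only [Category.assoc, pullback.diagonal_fst, pullback.diagonal_snd, Category.comp_id,
          pullback.lift_fst, pullback.lift_snd] at e₁ e₂
        rw [← Category.assoc, ← e₁, e₂, Category.assoc]
      · change (yon S).map (hj.1.snd (x ≫ f)) ≫ x ≫ v = (yon S).map (hj.1.snd (x ≫ f)) ≫ y ≫ v
        rw [← Category.assoc, ← Category.assoc,
          ← hUV (hj.1.fst (x ≫ f)) ((yon S).map (hj.1.snd (x ≫ f)) ≫ x) (by rw [sq₁.w, Category.assoc]),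
          ← hUV (hj.1.fst (x ≫ f)) ((yon S).map (hj.1.snd (x ≫ f)) ≫ y)
            (by rw [sq₁.w, Category.assoc, h])]
  let Us : ULift.{u} Bool → Space S := fun b => cond b.down U V
  let a : ∀ b, (Us b).obj ⟶ W.obj := fun b =>
    match b with
    | ⟨true⟩ => j
    | ⟨false⟩ => f
  let z : ∀ b, (Us b).obj ⟶ Z := fun b =>
    match b with
    | ⟨true⟩ => u
    | ⟨false⟩ => v
  obtain ⟨g, hg, hu⟩ := existsUnique_of_cover W.property Us a (fun b => by
      rcases b with ⟨_ | _⟩
      · exact hsq.2.1
      · intro T φ hφ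
        exact repWith_comp hφ (repWith_mono
          (fun A B g (hg : IsOpenImmersion g) => (inferInstance : Etale g)) hj))
    (fun x => (mem_range_or hsq x).elim (fun h => ⟨⟨true⟩, h⟩) fun h => ⟨⟨false⟩, h⟩) z
    (fun i k T x y h => by
      rcases i with ⟨_ | _⟩ <;> rcases k with ⟨_ | _⟩
      · exact hVV x y h
      · exact (hUV y x h.symm).symm
      · exact hUV x y h
      · exact congrArg (· ≫ u) ((cancel_mono j).1 h))
  exact ⟨g, ⟨hg ⟨true⟩, hg ⟨false⟩⟩, fun g' hg' => hu g' fun b => by
    rcases b with ⟨_ | _⟩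
    · exact hg'.2
    · exact hg'.1⟩

end Groth.Agent.DistSq15
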