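import Groth.Agent.Lib.AlgSpace.EtaleApps
import Groth.Agent.Lib.AlgSpace.MorDiag
import Groth.Agent.Lib.AlgSpace.Coprod
import Groth.Agent.Lib.AlgSpace.Atlas
import Groth.Agent.Lib.AlgSpace.PointsBC

/-!
# Gluing along étale families
-/

universe u

set_option backward.isDefEq.respectTransparency.types false

open CategoryTheory CategoryTheory.Limits AlgebraicGeometry Opposite

namespace Groth.Agent.DistSq15

open AlgSp AlgSpace AlgSpDecent

variable {S : Scheme.{u}}

/-- A jointly surjective étale family of charts as a single chart. -/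
theorem exists_sum_chart {W : Sp S} (hW : IsAlgSpace W) {κ : Type u} (U : κ → Over S)
    (a : ∀ k, (yon S).obj (U k) ⟶ W) (he : ∀ k, RepWith @Etale (a k))
    (hc : ∀ x : Points W, ∃ k v, Points.ofPt (a k) v = x) :
    ∃ (T : Over S) (π : ∀ k, U k ⟶ T) (p : (yon S).obj T ⟶ W),
      (∀ k, IsOpenImmersion (π k).left) ∧ (∀ t : ↥T.left, ∃ k v, (π k).left v = t) ∧
      RepWith @Etale p ∧ RepWith @Surjective p ∧ ∀ k, (yon S).map (π k) ≫ p = a k := by
  let T : Over S := Over.mk (Sigma.desc fun k => (U k).hom)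
  let π : ∀ k, U k ⟶ T := fun k =>
    Over.homMk (Sigma.ι (fun k => (U k).left) k) (Sigma.ι_desc _ _)
  have hπ : ∀ k, IsOpenImmersion (π k).left := fun k =>
    inferInstanceAs (IsOpenImmersion (Sigma.ι (fun k => (U k).left) k))
  have hπc : ∀ t : ↥T.left, ∃ k v, (π k).left v = t := fun t =>
    ⟨_, (sigmaOpenCover (fun k => (U k).left)).covers t⟩
  obtain ⟨p, hp, -⟩ := existsUnique_glue π hπ hπc a fun i j Z x y e => by
    by_cases hij : i = j
    · subst hij
      have : IsOpenImmersion (π i).left := hπ i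
      have : Mono (π i) := (Over.forget S).mono_of_mono_map (inferInstanceAs (Mono (π i).left))
      rw [(cancel_mono (π i)).1 e]
    · have : IsEmpty ↥Z.left := ⟨fun z => by
        have h₁ : (π i).left (x.left z) = (π j).left (y.left z) := by
          rw [← Scheme.Hom.comp_apply, ← Scheme.Hom.comp_apply, ← Over.comp_left, ← Over.comp_left, e]
        exact (Set.disjoint_left.1 (TopologicalSpace.Opens.coe_disjoint.2
          (disjoint_opensRange_sigmaι (fun k => (U k).left) i j hij))) ⟨_, rfl⟩ ⟨_, h₁.symm⟩⟩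
      exact hom_ext_of_isEmpty _ _
  refine ⟨T, π, p, hπ, hπc, ?_, ?_, hp⟩
  · refine repWith_of_source_opens (hW.representable_from_yon p)
      (fun k => (π k).left.opensRange) (fun t => ?_) fun k => ?_
    · obtain ⟨k, v, hv⟩ := hπc t
      exact ⟨k, v, hv⟩
    · have : IsOpenImmersion (π k).left := hπ k
      let e : Over.mk ((π k).left.opensRange.ι ≫ T.hom) ⟶ U k :=
        CategoryTheory.Over.homMk (π k).left.isoOpensRange.inv (by
          change _ = (π k).left.opensRange.ι ≫ T.hom
          rw [← Over.w (π k), Scheme.Hom.isoOpensRange_inv_comp_assoc])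
      have he' : overArrow (π k).left.opensRange.ι = e ≫ π k :=
        Over.OverMorphism.ext (Scheme.Hom.isoOpensRange_inv_comp _).symm
      rw [he', Functor.map_comp, Category.assoc, hp k]
      exact repWith_comp ((repWith_yon_map_iff _ e).2
        (show Etale (π k).left.isoOpensRange.inv from inferInstance)) (he k)
  · refine repWith_surjective_of_ofPt (hW.representable_from_yon p) fun x => ?_
    obtain ⟨k, v, hv⟩ := hc x
    refine ⟨(π k).left v, ?_⟩
    rw [← hv, ← hp k, ofPt_map_comp]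

/-- Maps out of an algebraic space glue along étale families of charts. -/
theorem existsUnique_of_charts {W Z : Sp S} (hW : IsAlgSpace W) {κ : Type u} (U : κ → Over S)
    (a : ∀ k, (yon S).obj (U k) ⟶ W) (he : ∀ k, RepWith @Etale (a k))
    (hc : ∀ x : Points W, ∃ k v, Points.ofPt (a k) v = x) (z : ∀ k, (yon S).obj (U k) ⟶ Z)
    (hz : ∀ i j (T : Over S) (x : T ⟶ U i) (y : T ⟶ U j),
      (yon S).map x ≫ a i = (yon S).map y ≫ a j → (yon S).map x ≫ z i = (yon S).map y ≫ z j) :
    ∃! g : W ⟶ Z, ∀ k, a k ≫ g = z k := by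
  obtain ⟨T, π, p, hπ, hπc, hpe, hps, hp⟩ := exists_sum_chart hW U a he hc
  obtain ⟨z', hz', -⟩ := existsUnique_glue π hπ hπc z fun i j T' x y e => hz i j T' x y (by
    rw [← hp i, ← hp j, ← Category.assoc, ← Category.assoc, ← Functor.map_comp, ← Functor.map_comp, e])
  have := isLocallySurjective_of_etale hpe hps
  have sq := IsPullback.of_hasPullback p p
  obtain ⟨hC⟩ := nonempty_isColimit_cofork p sq
  have hagree : pullback.fst p p ≫ z' = pullback.snd p p ≫ z' := hom_ext_yon fun A x => by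
    obtain ⟨x₁, hx₁⟩ := (yon S).map_surjective (x ≫ pullback.fst p p)
    obtain ⟨x₂, hx₂⟩ := (yon S).map_surjective (x ≫ pullback.snd p p)
    rw [← Category.assoc, ← Category.assoc, ← hx₁, ← hx₂]
    have e : (yon S).map x₁ ≫ p = (yon S).map x₂ ≫ p := by
      rw [hx₁, hx₂, Category.assoc, Category.assoc, pullback.condition]
    let O : κ × κ → A.left.Opens := fun ij =>
      x₁.left ⁻¹ᵁ (π ij.1).left.opensRange ⊓ x₂.left ⁻¹ᵁ (π ij.2).left.opensRange
    refine hom_ext_glue (fun ij => overArrow (U := A) (O ij).ι)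
      (fun ij => inferInstanceAs (IsOpenImmersion (O ij).ι)) (fun t => ?_) fun ij => ?_
    · obtain ⟨i, v, hv⟩ := hπc (x₁.left t)
      obtain ⟨j, w, hw⟩ := hπc (x₂.left t)
      exact ⟨(i, j), ⟨t, ⟨v, hv⟩, ⟨w, hw⟩⟩, rfl⟩
    · obtain ⟨i, j⟩ := ij
      have hi := hπ i
      have hj := hπ j
      obtain ⟨l₁, hl₁⟩ : ∃ l : Over.mk ((O (i, j)).ι ≫ A.hom) ⟶ U i,
          overArrow (U := A) (O (i, j)).ι ≫ x₁ = l ≫ π i := by
        refine ⟨CategoryTheory.Over.homMk (IsOpenImmersion.lift (π i).left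
          ((O (i, j)).ι ≫ x₁.left) ?_) ?_, ?_⟩
        · rintro _ ⟨t, rfl⟩
          exact t.2.1
        · change _ = (O (i, j)).ι ≫ A.hom
          rw [← Over.w (π i), IsOpenImmersion.lift_fac_assoc, Category.assoc, Over.w x₁]
        · exact Over.OverMorphism.ext (IsOpenImmersion.lift_fac _ _ _).symm
      obtain ⟨l₂, hl₂⟩ : ∃ l : Over.mk ((O (i, j)).ι ≫ A.hom) ⟶ U j,
          overArrow (U := A) (O (i, j)).ι ≫ x₂ = l ≫ π j := by
        refine ⟨CategoryTheory.Over.homMk (IsOpenImmersion.lift (π j).left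
          ((O (i, j)).ι ≫ x₂.left) ?_) ?_, ?_⟩
        · rintro _ ⟨t, rfl⟩
          exact t.2.2
        · change _ = (O (i, j)).ι ≫ A.hom
          rw [← Over.w (π j), IsOpenImmersion.lift_fac_assoc, Category.assoc, Over.w x₂]
        · exact Over.OverMorphism.ext (IsOpenImmersion.lift_fac _ _ _).symm
      rw [← Functor.map_comp_assoc, ← Functor.map_comp_assoc, hl₁, hl₂, Functor.map_comp,
        Functor.map_comp, Category.assoc, Category.assoc, hz', hz']
      refine hz i j _ l₁ l₂ ?_
      rw [← hp i, ← hp j, ← Category.assoc, ← Category.assoc, ← Functor.map_comp, ← Functor.map_comp,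
        ← hl₁, ← hl₂, Functor.map_comp, Functor.map_comp, Category.assoc, Category.assoc, e]
  let g : W ⟶ Z := hC.desc (Cofork.ofπ z' hagree)
  have hg : p ≫ g = z' := hC.fac (Cofork.ofπ z' hagree) WalkingParallelPair.one
  refine ⟨g, fun k => by rw [← hp k, Category.assoc, hg, hz'], fun g' hg' => ?_⟩
  have : Epi p := inferInstance
  rw [← cancel_epi p, hg]
  exact hom_ext_glue π hπ hπc fun k => by rw [← Category.assoc, hp k, hg' k, hz']

/-- Maps out of an algebraic space glue along étale families of algebraic spaces. -/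
theorem existsUnique_of_cover {W Z : Sp S} (hW : IsAlgSpace W) {κ : Type u} (U : κ → Space S)
    (a : ∀ k, (U k).obj ⟶ W) (he : ∀ k, IsEtaleMor (a k))
    (hc : ∀ x : Points W, ∃ k, x ∈ Set.range (Points.map (a k))) (z : ∀ k, (U k).obj ⟶ Z)
    (hz : ∀ i j (T : Over S) (x : (yon S).obj T ⟶ (U i).obj) (y : (yon S).obj T ⟶ (U j).obj),
      x ≫ a i = y ≫ a j → x ≫ z i = y ≫ z j) :
    ∃! g : W ⟶ Z, ∀ k, a k ≫ g = z k := by
  choose C p hpe hps using fun k => (U k).property.atlas
  have hc' : ∀ x : Points W, ∃ k v, Points.ofPt (p k ≫ a k) v = x := fun x => by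
    obtain ⟨k, y, hy⟩ := hc x
    obtain ⟨v, hv⟩ := surjective_ofPt (hps k) y
    exact ⟨k, v, by rw [← Points.map_ofPt, hv, hy]⟩
  obtain ⟨g, hg, hu⟩ := existsUnique_of_charts hW C (fun k => p k ≫ a k)
    (fun k => he k (p k) (hpe k)) hc' (fun k => p k ≫ z k) fun i j T x y e => by
      rw [← Category.assoc, ← Category.assoc]
      exact hz i j T _ _ (by simpa only [Category.assoc] using e)
  refine ⟨g, fun k => ?_, fun g' hg' => hu g' fun k => by
    change (p k ≫ a k) ≫ g' = _
    rw [Category.assoc, hg']⟩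
  have := isLocallySurjective_of_etale (hpe k) (hps k)
  rw [← cancel_epi (p k), ← Category.assoc]
  exact hg k

/-- A property local on the target is checked on an étale family of charts, each factoring through
a map along which the base change has the property. -/
theorem repWith_of_factor_cover {P : MorphismProperty Scheme.{u}} [P.IsStableUnderBaseChange]
    [P.IsLocalAtTarget Scheme.fppfPrecoverage] [IsZariskiLocalAtTarget P]
    {A G : Sp S} (hG : IsAlgSpace G) {a : A ⟶ G} (ha : Representable a)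
    {κ : Type u} (Q : κ → Over S) (q : ∀ k, (yon S).obj (Q k) ⟶ G)
    (he : ∀ k, RepWith @Etale (q k))
    (hc : ∀ x : Points G, ∃ k v, Points.ofPt (q k) v = x)
    (h : ∀ k, ∃ (H R : Sp S) (n : (yon S).obj (Q k) ⟶ H) (m : H ⟶ G) (r : R ⟶ A) (b : R ⟶ H),
      n ≫ m = q k ∧ IsPullback r b a m ∧ RepWith P b) : RepWith P a := by
  obtain ⟨T, π, p, hπ, hπc, hpe, hps, hp⟩ := exists_sum_chart hG Q q he hc
  have := isLocallySurjective_of_etale hpe hps
  have sq := ha.isPullback p
  refine repWith_of_locallySurjective ha sq P ((repWith_yon_map_iff _ _).2 ?_)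
  have hop : ∀ k, IsOpenImmersion (π k).left := hπ
  refine (IsZariskiLocalAtTarget.iff_of_iSup_eq_top (P := P) (fun k => (π k).left.opensRange) ?_).2
    fun k => ?_
  · rw [eq_top_iff]
    intro t _
    obtain ⟨k, v, hv⟩ := hπc t
    exact TopologicalSpace.Opens.mem_iSup.2 ⟨k, v, hv⟩
  obtain ⟨H, R, n, m, r, b, hnm, sqR, hb⟩ := h k
  have sq₁ := (hb.1.isPullback n).paste_horiz sqR
  have hb₁ : P (hb.1.snd n).left := hb.2 n _ _ (hb.1.isPullback n)
  have sq₂ := IsPullback.of_hasPullback (ha.snd p) (π k)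
  have sq₃ := (sq₂.map (yon S)).paste_horiz sq
  rw [hp k, ← hnm] at sq₃
  obtain ⟨e, he⟩ : ∃ e : pullback (ha.snd p) (π k) ≅ hb.1.pullback n,
      e.hom ≫ hb.1.snd n = pullback.snd (ha.snd p) (π k) := by
    refine ⟨(yon S).preimageIso (sq₃.isoIsPullback _ _ sq₁), (yon S).map_injective ?_⟩
    simp
  have h₂ : P (pullback.snd (ha.snd p) (π k)).left := by
    rw [← he, Over.comp_left]
    exact (P.cancel_left_of_respectsIso ((Over.forget S).mapIso e).hom _).2 hb₁
  have sq₄ : IsPullback (pullback.fst (ha.snd p) (π k)).left (pullback.snd (ha.snd p) (π k)).left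
      (ha.snd p).left (π k).left := sq₂.map (Over.forget S)
  exact (P.arrow_mk_iso_iff (morphismRestrictOpensRange (ha.snd p).left (π k).left)).2
    ((P.arrow_mk_iso_iff (Arrow.isoMk sq₄.isoPullback (Iso.refl _) (by simp))).1 h₂)

end Groth.Agent.DistSq15
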