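import Groth.Agent.Lib.DistSq15.Cover
import Mathlib.CategoryTheory.Limits.Shapes.Pullback.Equifibered

/-!
# Colimits of schemes which are colimits of algebraic spaces
-/

universe w v u

set_option backward.isDefEq.respectTransparency.types false

open CategoryTheory CategoryTheory.Limits AlgebraicGeometry Opposite

namespace Groth.Agent.DistSq15

open AlgSp AlgSpace AlgSpDecent

variable {S : Scheme.{u}} {I : Type v} [Category.{w} I]

/-- A map out of a colimit of schemes factoring through a chart on the pieces factors through it. -/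
theorem eq_of_colimit {X : Sp S} {U : Over S} {a : (yon S).obj U ⟶ X} (ha : Representable a)
    {D : I ⥤ Over S} {c : Cocone D} (hc : IsColimit ((Over.forget S).mapCocone c)) (u : c.pt ⟶ U)
    (y : (yon S).obj c.pt ⟶ X)
    (h : ∀ i, (yon S).map (c.ι.app i ≫ u) ≫ a = (yon S).map (c.ι.app i) ≫ y) :
    (yon S).map u ≫ a = y := by
  have hco : IsColimit c := isColimitOfReflects (Over.forget S) hc
  let l : ∀ i, D.obj i ⟶ ha.pullback y := fun i => ha.lift' (c.ι.app i ≫ u) (c.ι.app i) (h i)
  let s : Cocone D :=
    { pt := ha.pullback y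
      ι := { app := l
             naturality := fun i j g => by
               change D.map g ≫ l j = l i ≫ 𝟙 _
               rw [Category.comp_id]
               apply ha.hom_ext' <;> simp [l, Cocone.w_assoc] } }
  have h₁ : hco.desc s ≫ ha.fst' y = u := hco.hom_ext fun i => by
    rw [hco.fac_assoc]; simp [s, l]
  have h₂ : hco.desc s ≫ ha.snd y = 𝟙 _ := hco.hom_ext fun i => by
    rw [hco.fac_assoc]; simp [s, l]
  rw [← h₁, Functor.map_comp, Category.assoc, (ha.isPullback' y).w, ← Functor.map_comp_assoc, h₂,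
    CategoryTheory.Functor.map_id, Category.id_comp]

/-- The diagram pulled back along a map into the colimit. -/
theorem exists_pulled {D : I ⥤ Over S} (c : Cocone D) {A : Over S} (a : A ⟶ c.pt) :
    ∃ (D' : I ⥤ Over S) (α : D' ⟶ D) (ι : D' ⟶ (Functor.const I).obj A),
      ∀ i, IsPullback (ι.app i) (α.app i) a (c.ι.app i) := by
  let D' : I ⥤ Over S :=
    { obj := fun i => pullback a (c.ι.app i)
      map := fun {i j} g => pullback.lift (pullback.fst _ _) (pullback.snd _ _ ≫ D.map g)
        (by rw [Category.assoc, c.w, pullback.condition])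
      map_id := fun i => by apply pullback.hom_ext <;> simp [pullback.lift_fst, pullback.lift_snd]
      map_comp := fun g g' => by
        apply pullback.hom_ext <;>
          simp [pullback.lift_fst, pullback.lift_snd, pullback.lift_fst_assoc, pullback.lift_snd_assoc] }
  exact ⟨D', { app := fun i => pullback.snd _ _, naturality := fun i j g => pullback.lift_snd _ _ _ },
    { app := fun i => pullback.fst _ _
      naturality := fun i j g => (pullback.lift_fst _ _ _).trans (Category.comp_id _).symm },
    fun i => IsPullback.of_hasPullback _ _⟩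

/-- Base changes of charts by affine schemes are separated. -/
theorem isSeparated_snd {X : Sp S} {U T : Over S} [IsAffine U.left] {a : (yon S).obj U ⟶ X}
    (ha : Representable a) (x : (yon S).obj T ⟶ X) : IsSeparated (ha.snd x).left := by
  let l : (ha.pullback x).left ⟶ pullback U.hom T.hom :=
    pullback.lift (ha.fst' x).left (ha.snd x).left (by rw [Over.w, Over.w])
  have : Mono l := ⟨fun {R} r r' e => by
    have e₁ : r ≫ (ha.fst' x).left = r' ≫ (ha.fst' x).left := by
      simpa [l, pullback.lift_fst] using congrArg (· ≫ pullback.fst _ _) e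
    have e₂ : r ≫ (ha.snd x).left = r' ≫ (ha.snd x).left := by
      simpa [l, pullback.lift_snd] using congrArg (· ≫ pullback.snd _ _) e
    let R' : Over S := Over.mk (r ≫ (ha.pullback x).hom)
    let b : R' ⟶ ha.pullback x := Over.homMk r rfl
    let b' : R' ⟶ ha.pullback x := Over.homMk r' (by
      show r' ≫ (ha.pullback x).hom = r ≫ (ha.pullback x).hom
      rw [← Over.w (ha.snd x), reassoc_of% e₂])
    have : b = b' := ha.hom_ext' (Over.OverMorphism.ext e₁) (Over.OverMorphism.ext e₂)
    exact congrArg CommaMorphism.left this⟩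
  have : IsSeparated U.hom := inferInstance
  have : IsSeparated (pullback.snd U.hom T.hom) := MorphismProperty.pullback_snd _ _ inferInstance
  have e : l ≫ pullback.snd U.hom T.hom = (ha.snd x).left := pullback.lift_snd _ _ _
  rw [← e]
  infer_instance

/-- A colimit of schemes, stable under étale base change and with effective étale descent, is a
colimit of algebraic spaces. -/
theorem existsUnique_of_sch_colimit {D : I ⥤ Over S} (c : Cocone D)
    (h₂ : ∀ x : ↥c.pt.left, ∃ (i : I) (y : ↥(D.obj i).left), (c.ι.app i).left y = x)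
    (h₃ : ∀ (D' : I ⥤ Over S) (α : D' ⟶ D) (c' : Cocone D') (a : c'.pt ⟶ c.pt), Etale a.left →
      (∀ i, IsPullback (c'.ι.app i) (α.app i) a (c.ι.app i)) →
        Nonempty (IsColimit ((Over.forget S).mapCocone c')))
    (h₄ : ∀ (D' : I ⥤ Over S) (α : D' ⟶ D), NatTrans.Equifibered α → (∀ i, Etale (α.app i).left) →
      (∀ i, IsSeparated (α.app i).left) →
      ∃ (c' : Cocone D') (a : c'.pt ⟶ c.pt), Etale a.left ∧
        ∀ i, IsPullback (c'.ι.app i) (α.app i) a (c.ι.app i))
    {X : Sp S} (hX : IsAlgSpace X) (s : ∀ i, (yon S).obj (D.obj i) ⟶ X)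
    (hs : ∀ ⦃i j : I⦄ (g : i ⟶ j), (yon S).map (D.map g) ≫ s j = s i) :
    ∃! m : (yon S).obj c.pt ⟶ X, ∀ i, (yon S).map (c.ι.app i) ≫ m = s i := by
  obtain ⟨κ, T, q, hT, hq, hqs⟩ := exists_affine_cover hX
  have step : ∀ k, ∃ (D' : I ⥤ Over S) (α : D' ⟶ D) (c' : Cocone D') (a : c'.pt ⟶ c.pt)
      (u : c'.pt ⟶ T k), Etale a.left ∧ (∀ i, IsPullback (c'.ι.app i) (α.app i) a (c.ι.app i)) ∧
      (∀ i, (yon S).map (c'.ι.app i ≫ u) ≫ q k = (yon S).map (α.app i) ≫ s i) ∧
      (∀ i, Etale (α.app i).left) ∧
      Nonempty (IsColimit ((Over.forget S).mapCocone c')) ∧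
      ∀ i (v : ↥(D.obj i).left), Points.ofPt (s i) v ∈ Set.range (Points.map (q k)) →
        v ∈ Set.range (α.app i).left := by
    intro k
    have ha := (hq k).1
    let D' : I ⥤ Over S :=
      { obj := fun i => ha.pullback (s i)
        map := fun {i j} g => ha.lift' (ha.fst' (s i)) (ha.snd (s i) ≫ D.map g) (by
          rw [Functor.map_comp, Category.assoc, hs, (ha.isPullback' (s i)).w])
        map_id := fun i => by apply ha.hom_ext' <;> simp
        map_comp := fun g g' => by apply ha.hom_ext' <;> simp }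
    let α : D' ⟶ D :=
      { app := fun i => ha.snd (s i)
        naturality := fun i j g => ha.lift'_snd _ _ _ }
    have het : ∀ i, Etale (α.app i).left := fun i => (hq k).2 (s i) _ _ (ha.isPullback (s i))
    have : IsAffine (T k).left := hT k
    obtain ⟨c', a, hae, hp⟩ := h₄ D' α (fun i j g => by
      refine IsPullback.of_map_of_faithful (yon S) ?_
      refine IsPullback.of_right ?_ (by rw [← Functor.map_comp, ← Functor.map_comp]; simp [α, D'])
        (ha.isPullback' (s j))
      rw [← Functor.map_comp, show D'.map g ≫ ha.fst' (s j) = ha.fst' (s i) from ha.lift'_fst _ _ _, hs]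
      exact ha.isPullback' (s i)) het (fun i => isSeparated_snd ha (s i))
    obtain ⟨hcol⟩ := h₃ D' α c' a hae hp
    have hco : IsColimit c' := isColimitOfReflects (Over.forget S) hcol
    let uc : Cocone D' :=
      { pt := T k
        ι := { app := fun i => ha.fst' (s i)
               naturality := fun i j g => (ha.lift'_fst _ _ _).trans (Category.comp_id _).symm } }
    refine ⟨D', α, c', a, hco.desc uc, hae, hp, fun i => ?_, het, ⟨hcol⟩, fun i v hv => ?_⟩
    · rw [hco.fac uc i]
      exact (ha.isPullback' (s i)).w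
    · obtain ⟨z, hz⟩ := hv
      obtain ⟨w, -, hw⟩ := exists_pt_of_isPullback (ha.isPullback (s i)) hz
      exact ⟨w, hw⟩
  choose D' α c' a u hae hp hu hαe hcol hsurj using step
  have hae' : ∀ k, RepWith @Etale ((yon S).map (a k)) := fun k => (repWith_yon_map_iff _ _).2 (hae k)
  have hcov : ∀ x : Points ((yon S).obj c.pt), ∃ k v, Points.ofPt ((yon S).map (a k)) v = x := by
    intro x
    obtain ⟨x, rfl⟩ := (Points.schemeEquiv c.pt).surjective x
    obtain ⟨i, y, rfl⟩ := h₂ x
    obtain ⟨k, hk⟩ := hqs (Points.ofPt (s i) y)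
    obtain ⟨v, hv⟩ := hsurj k i y hk
    refine ⟨k, ((c' k).ι.app i).left v, ?_⟩
    rw [ofPt_map_eq, ← hv, ← Scheme.Hom.comp_apply, ← Scheme.Hom.comp_apply, ← Over.comp_left,
      ← Over.comp_left, (hp k i).w]
    rfl
  -- values on the pieces of a refinement
  have hval : ∀ (k : κ) {A : Over S} (b : A ⟶ (c' k).pt) (Db : I ⥤ Over S) (αb : Db ⟶ D)
      (ιb : Db ⟶ (Functor.const I).obj A),
      (∀ i, IsPullback (ιb.app i) (αb.app i) (b ≫ a k) (c.ι.app i)) → ∀ i,
      (yon S).map (ιb.app i ≫ b ≫ u k) ≫ q k = (yon S).map (αb.app i) ≫ s i := by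
    intro k A b Db αb ιb hb i
    let z := (hp k i).lift (ιb.app i ≫ b) (αb.app i) (by rw [Category.assoc]; exact (hb i).w)
    have hz₁ : z ≫ (c' k).ι.app i = ιb.app i ≫ b := (hp k i).lift_fst _ _ _
    have hz₂ : z ≫ (α k).app i = αb.app i := (hp k i).lift_snd _ _ _
    calc (yon S).map (ιb.app i ≫ b ≫ u k) ≫ q k
        = (yon S).map z ≫ (yon S).map ((c' k).ι.app i ≫ u k) ≫ q k := by
          rw [← Functor.map_comp_assoc, ← Category.assoc z, hz₁, Category.assoc]
      _ = (yon S).map (αb.app i) ≫ s i := by
          rw [hu, ← Functor.map_comp_assoc, hz₂]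
  obtain ⟨m, hm, hmu⟩ := existsUnique_of_charts (IsAlgSpace.yon_obj c.pt) (fun k => (c' k).pt)
    (fun k => (yon S).map (a k)) hae' hcov (fun k => (yon S).map (u k) ≫ q k) fun k l A x y e => by
    have exy : x ≫ a k = y ≫ a l := (yon S).map_injective (by simpa only [Functor.map_comp] using e)
    suffices key : (yon S).map (pullback.fst (a k) (a l) ≫ u k) ≫ q k =
        (yon S).map (pullback.snd (a k) (a l) ≫ u l) ≫ q l by
      have := congrArg (fun t => (yon S).map (pullback.lift x y exy) ≫ t) key
      simp only [← Functor.map_comp_assoc, pullback.lift_fst_assoc, pullback.lift_snd_assoc] at this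
      simpa only [Functor.map_comp, Category.assoc] using this
    obtain ⟨Db, αb, ιb, hb⟩ := exists_pulled c (pullback.fst (a k) (a l) ≫ a k)
    have hbe : Etale (pullback.fst (a k) (a l) ≫ a k).left := by
      rw [Over.comp_left]
      have : Etale (a k).left := hae k
      have : Etale (pullback.fst (a k) (a l)).left :=
        MorphismProperty.of_isPullback ((IsPullback.of_hasPullback (a k) (a l)).map (Over.forget S)).flip
          (hae l)
      infer_instance
    obtain ⟨hbc⟩ := h₃ Db αb ⟨_, ιb⟩ _ hbe hb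
    refine eq_of_colimit (hq k).1 (c := ⟨_, ιb⟩) hbc _ _ fun i => ?_
    rw [hval k _ Db αb ιb hb i, ← Functor.map_comp_assoc]
    refine (hval l _ Db αb ιb (fun i => ?_) i).symm
    rw [← pullback.condition]
    exact hb i
  refine ⟨m, fun i => ?_, fun m' hm' => hmu m' fun k => ?_⟩
  · have hαe' : ∀ k, RepWith @Etale ((yon S).map ((α k).app i)) := fun k =>
      (repWith_yon_map_iff _ _).2 (hαe k i)
    obtain ⟨g, -, hgu⟩ := existsUnique_of_charts (IsAlgSpace.yon_obj (D.obj i)) (fun k => (D' k).obj i)
      (fun k => (yon S).map ((α k).app i)) hαe' (fun x => by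
        obtain ⟨x, rfl⟩ := (Points.schemeEquiv (D.obj i)).surjective x
        obtain ⟨k, hk⟩ := hqs (Points.ofPt (s i) x)
        obtain ⟨v, hv⟩ := hsurj k i x hk
        exact ⟨k, v, by rw [ofPt_map_eq, hv]; rfl⟩)
      (fun k => (yon S).map ((α k).app i) ≫ s i) fun k l A x y e => by
        rw [← Category.assoc, ← Category.assoc, e]
    refine (hgu _ fun k => ?_).trans (hgu _ fun k => rfl).symm
    rw [← Functor.map_comp_assoc, ← (hp k i).w, Functor.map_comp_assoc, hm, ← Functor.map_comp_assoc, hu]
  · refine (eq_of_colimit (hq k).1 (hcol k).some (u k) _ fun i => ?_).symm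
    rw [hu, ← hm' i, ← Functor.map_comp_assoc, ← Functor.map_comp_assoc, (hp k i).w]

end Groth.Agent.DistSq15
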