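import Groth.Agent.Lib.DistSq15.Square

/-!
# Separatedness along an elementary distinguished square
-/

universe u

set_option backward.isDefEq.respectTransparency.types false

open CategoryTheory CategoryTheory.Limits AlgebraicGeometry Opposite

namespace Groth.Agent.DistSq15

open AlgSp AlgSpace AlgSpDecent

variable {S : Scheme.{u}}

attribute [local simp] pullback.lift_fst pullback.lift_snd pullback.lift_fst_assoc pullback.lift_snd_assoc

theorem isPullback_diag_pair {C : Type*} [Category C] [HasPullbacks C] {A B X Y PX PY : C}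
    {a : A ⟶ X} {b : B ⟶ X} {g : X ⟶ Y} {pX : PX ⟶ A} {qX : PX ⟶ B} (hPX : IsPullback pX qX a b)
    {pY : PY ⟶ A} {qY : PY ⟶ B} (hPY : IsPullback pY qY (a ≫ g) (b ≫ g)) (c : PX ⟶ PY)
    (hc₁ : c ≫ pY = pX) (hc₂ : c ≫ qY = qX) :
    IsPullback (pX ≫ a) c (pullback.diagonal g)
      (pullback.lift (pY ≫ a) (qY ≫ b) (by rw [Category.assoc, Category.assoc]; exact hPY.w)) := by
  have hw : (pX ≫ a) ≫ pullback.diagonal g =
      c ≫ pullback.lift (pY ≫ a) (qY ≫ b) (by rw [Category.assoc, Category.assoc]; exact hPY.w) := by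
    apply pullback.hom_ext
    · simp [reassoc_of% hc₁]
    · simp [reassoc_of% hc₂, hPX.w]
  refine ⟨⟨hw⟩, ⟨PullbackCone.IsLimit.mk hw (fun s => hPX.lift (s.snd ≫ pY) (s.snd ≫ qY) ?_)
    (fun s => ?_) (fun s => ?_) (fun s m h₁ h₂ => ?_)⟩⟩
  · have e₁ := congrArg (· ≫ pullback.fst g g) s.condition
    have e₂ := congrArg (· ≫ pullback.snd g g) s.condition
    simp at e₁ e₂
    simp only [Category.assoc]
    rw [← e₁, e₂]
  · have e₁ := congrArg (· ≫ pullback.fst g g) s.condition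
    simp at e₁
    rw [hPX.lift_fst_assoc]
    simp only [Category.assoc]
    rw [← e₁]
  · apply hPY.hom_ext <;> simp [hc₁, hc₂]
  · apply hPX.hom_ext
    · rw [hPX.lift_fst, ← h₂]
      simp only [Category.assoc, hc₁]
    · rw [hPX.lift_snd, ← h₂]
      simp only [Category.assoc, hc₂]

/-- The mixed piece of the diagonal is a closed immersion. -/
theorem repWith_closedImm_mixed {U V X Y PX PY : Sp S} {j : U ⟶ X} {f : V ⟶ X} {g : X ⟶ Y}
    (hj : RepWith @IsOpenImmersion j) (hU : IsSeparatedMor (j ≫ g)) {pX : PX ⟶ U} {qX : PX ⟶ V}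
    (hPX : IsPullback pX qX j f) {pY : PY ⟶ U} {qY : PY ⟶ V}
    (hPY : IsPullback pY qY (j ≫ g) (f ≫ g)) (c : PX ⟶ PY) (hc₂ : c ≫ qY = qX)
    (hcl : IsClosedMor c) : RepWith @IsClosedImmersion c := by
  have h₁ : RepWith @IsImmersion (c ≫ qY) := by
    rw [hc₂]
    exact repWith_mono (fun A B g (hg : IsOpenImmersion g) => (inferInstance : IsImmersion g))
      (repWith_of_isPullback hPX hj)
  have h₂ : RepWith @IsImmersion (pullback.diagonal qY) :=
    repWith_mono (fun A B g (hg : IsClosedImmersion g) => (inferInstance : IsImmersion g))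
      (isSeparatedMor_of_isPullback hPY hU)
  have hc : RepWith @IsImmersion c := repWith_of_comp_of_diagonal h₁ h₂
  refine repWith_mk fun T t => ⟨_, _, _, hc.1.isPullback t, ?_⟩
  have sq := hc.1.isPullback t
  have : IsImmersion (hc.1.snd t).left := hc.2 t _ _ sq
  refine IsClosedImmersion.of_isPreimmersion _ ?_
  have hr : Set.range (hc.1.snd t).left = Points.ofPt t ⁻¹' Set.range (Points.map c) := by
    ext s
    constructor
    · rintro ⟨v, rfl⟩
      exact ⟨_, ofPt_sq sq.w v⟩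
    · rintro ⟨z, hz⟩
      obtain ⟨v, -, hv⟩ := exists_pt_of_isPullback sq hz
      exact ⟨v, hv⟩
  rw [hr]
  exact (IsClosedMap.isClosed_range hcl).preimage (Points.continuous_ofPt t)

theorem isPullback_map_left {X Y C : Sp S} (g : X ⟶ Y) (b : C ⟶ X) {D : Sp S} (d : D ⟶ Y) :
    IsPullback (pullback.fst (b ≫ g) d)
      (pullback.lift (f := g) (g := d) (pullback.fst (b ≫ g) d ≫ b) (pullback.snd (b ≫ g) d)
        (by simp [pullback.condition]))
      b (pullback.fst g d) :=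
  IsPullback.of_bot (by rw [pullback.lift_snd]; exact IsPullback.of_hasPullback (b ≫ g) d) (by rw [pullback.lift_fst])
    (IsPullback.of_hasPullback g d)

theorem isPullback_map_right {X Y C : Sp S} (g : X ⟶ Y) (b : C ⟶ X) {D : Sp S} (d : D ⟶ Y) :
    IsPullback (pullback.snd d (b ≫ g))
      (pullback.lift (f := d) (g := g) (pullback.fst d (b ≫ g)) (pullback.snd d (b ≫ g) ≫ b)
        (by simp [pullback.condition]))
      b (pullback.snd d g) :=
  IsPullback.of_bot (by rw [pullback.lift_fst]; exact (IsPullback.of_hasPullback d (b ≫ g)).flip) (by rw [pullback.lift_snd])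
    (IsPullback.of_hasPullback d g).flip

/-- Separatedness glues along an elementary distinguished square. -/
theorem isSeparatedMor_of_square {U V X Y : Space S} {j : U.obj ⟶ X.obj} {f : V.obj ⟶ X.obj}
    {g : X.obj ⟶ Y.obj} (hsq : IsElemDistSq j f) (hU : IsSeparatedMor (j ≫ g))
    {PX PY QX QY : Sp S} {pX : PX ⟶ U.obj} {qX : PX ⟶ V.obj} (hPX : IsPullback pX qX j f)
    {pY : PY ⟶ U.obj} {qY : PY ⟶ V.obj} (hPY : IsPullback pY qY (j ≫ g) (f ≫ g)) (c : PX ⟶ PY)
    (hc₁ : c ≫ pY = pX) (hc₂ : c ≫ qY = qX) (hcl : IsClosedMor c)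
    {rX₁ rX₂ : QX ⟶ V.obj} (hQX : IsPullback rX₁ rX₂ f f)
    {rY₁ rY₂ : QY ⟶ V.obj} (hQY : IsPullback rY₁ rY₂ (f ≫ g) (f ≫ g)) (d : QX ⟶ QY)
    (hd₁ : d ≫ rY₁ = rX₁) (hd₂ : d ≫ rY₂ = rX₂) (hd : RepWith @IsClosedImmersion d) :
    IsSeparatedMor g := by
  have hj := hsq.1
  have := mono_of_openImm hj
  have hc := repWith_closedImm_mixed hj hU hPX hPY c hc₂ hcl
  have := isLocalAtTarget_fppf_isClosedImmersion.{u}
  have hG : IsAlgSpace (pullback g g) :=
    isAlgSpace_pullback Y.property X.property X.property (IsPullback.of_hasPullback g g)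
  let Us : ULift.{u} Bool → Space S := fun b => cond b.down U V
  let a : ∀ b, (Us b).obj ⟶ X.obj := fun b =>
    match b with
    | ⟨true⟩ => j
    | ⟨false⟩ => f
  have ha : ∀ b, IsEtaleMor (a b) := fun b => by
    rcases b with ⟨_ | _⟩
    · exact hsq.2.1
    · intro T φ hφ
      exact repWith_comp hφ (repWith_mono
        (fun A B g (hg : IsOpenImmersion g) => (inferInstance : Etale g)) hj)
  have hac : ∀ x : Points X.obj, ∃ b, x ∈ Set.range (Points.map (a b)) := fun x =>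
    (mem_range_or hsq x).elim (fun h => ⟨⟨true⟩, h⟩) fun h => ⟨⟨false⟩, h⟩
  choose C p hpe hps using fun b => (Us b).property.atlas
  have hb : ∀ b, RepWith @Etale (p b ≫ a b) := fun b => ha b (p b) (hpe b)
  have hR : ∀ kl : ULift.{u} Bool × ULift.{u} Bool,
      IsAlgSpace (pullback ((p kl.1 ≫ a kl.1) ≫ g) ((p kl.2 ≫ a kl.2) ≫ g)) := fun kl =>
    isAlgSpace_pullback Y.property (IsAlgSpace.yon_obj _) (IsAlgSpace.yon_obj _)
      (IsPullback.of_hasPullback _ _)
  choose Q r hre hrs using fun kl => (hR kl).atlas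
  let m : ∀ kl : ULift.{u} Bool × ULift.{u} Bool,
      pullback ((p kl.1 ≫ a kl.1) ≫ g) ((p kl.2 ≫ a kl.2) ≫ g) ⟶ pullback g g := fun kl =>
    pullback.lift (pullback.fst _ _ ≫ p kl.1 ≫ a kl.1) (pullback.snd _ _ ≫ p kl.2 ≫ a kl.2)
      (by simpa using pullback.condition (f := (p kl.1 ≫ a kl.1) ≫ g) (g := (p kl.2 ≫ a kl.2) ≫ g))
  have hm : ∀ kl, RepWith @Etale (m kl) ∧ ∀ z : Points (pullback g g),
      Points.map (pullback.fst g g) z ∈ Set.range (Points.map (p kl.1 ≫ a kl.1)) →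
      Points.map (pullback.snd g g) z ∈ Set.range (Points.map (p kl.2 ≫ a kl.2)) →
      z ∈ Set.range (Points.map (m kl)) := fun kl => by
    obtain ⟨k, l⟩ := kl
    have s₁ := isPullback_map_left g (p k ≫ a k) ((p l ≫ a l) ≫ g)
    have s₂ := isPullback_map_right g (p l ≫ a l) g
    let m₁ := pullback.lift (f := g) (g := (p l ≫ a l) ≫ g)
      (pullback.fst ((p k ≫ a k) ≫ g) ((p l ≫ a l) ≫ g) ≫ p k ≫ a k)
      (pullback.snd ((p k ≫ a k) ≫ g) ((p l ≫ a l) ≫ g))
      (by have := pullback.condition (f := (p k ≫ a k) ≫ g) (g := (p l ≫ a l) ≫ g)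
          simp only [Category.assoc] at this ⊢
          exact this)
    let m₂ := pullback.lift (f := g) (g := g) (pullback.fst g ((p l ≫ a l) ≫ g))
      (pullback.snd g ((p l ≫ a l) ≫ g) ≫ p l ≫ a l) (by simp [pullback.condition])
    have hm12 : m (k, l) = m₁ ≫ m₂ := by apply pullback.hom_ext <;> simp [m, m₁, m₂]
    refine ⟨?_, fun z hz₁ hz₂ => ?_⟩
    · rw [hm12]
      exact repWith_comp (repWith_of_isPullback s₁ (hb k)) (repWith_of_isPullback s₂ (hb l))
    · obtain ⟨v, hv⟩ := hz₂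
      obtain ⟨z', -, hz'⟩ := exists_point_lift s₂ v z hv
      obtain ⟨u, hu⟩ := hz₁
      obtain ⟨w, -, hw⟩ := exists_point_lift s₁ u z' (by
        rw [hu, ← hz', ← Function.comp_apply (f := Points.map (pullback.fst g g)), ← map_comp_eq,
          pullback.lift_fst])
      refine ⟨w, ?_⟩
      rw [hm12, map_comp_eq, Function.comp_apply]
      exact (congrArg (Points.map m₂) hw).trans hz'
  refine repWith_of_factor_cover hG (representable_diagonal X.property g) Q (fun kl => r kl ≫ m kl)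
    (fun kl => repWith_comp (hre kl) (hm kl).1) (fun z => ?_) fun kl => ?_
  · obtain ⟨k, x, hx⟩ := hac (Points.map (pullback.fst g g) z)
    obtain ⟨l, y, hy⟩ := hac (Points.map (pullback.snd g g) z)
    obtain ⟨w, hw⟩ := (hm (k, l)).2 z
      (by obtain ⟨x', rfl⟩ := surjective_map_of_repWith (hps k) x
          exact ⟨x', by rw [map_comp_eq, Function.comp_apply]; exact hx⟩)
      (by obtain ⟨y', rfl⟩ := surjective_map_of_repWith (hps l) y
          exact ⟨y', by rw [map_comp_eq, Function.comp_apply]; exact hy⟩)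
    obtain ⟨v, hv⟩ := surjective_ofPt (hrs (k, l)) w
    exact ⟨(k, l), v, by rw [← Points.map_ofPt, hv, hw]⟩
  · have key : ∃ (H R : Sp S) (m' : H ⟶ pullback g g) (r' : R ⟶ X.obj) (b' : R ⟶ H)
        (h₁ : H ⟶ (Us kl.1).obj) (h₂ : H ⟶ (Us kl.2).obj),
        IsPullback h₁ h₂ (a kl.1 ≫ g) (a kl.2 ≫ g) ∧ m' ≫ pullback.fst g g = h₁ ≫ a kl.1 ∧
        m' ≫ pullback.snd g g = h₂ ≫ a kl.2 ∧ IsPullback r' b' (pullback.diagonal g) m' ∧
        RepWith @IsClosedImmersion b' := by
      obtain ⟨⟨_ | _⟩, ⟨_ | _⟩⟩ := kl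
      · exact ⟨_, _, _, _, _, rY₁, rY₂, hQY, pullback.lift_fst _ _ _, pullback.lift_snd _ _ _,
          isPullback_diag_pair hQX hQY d hd₁ hd₂, hd⟩
      · exact ⟨_, _, _, _, _, qY, pY, hPY.flip, pullback.lift_fst _ _ _, pullback.lift_snd _ _ _,
          isPullback_diag_pair hPX.flip hPY.flip c hc₂ hc₁, hc⟩
      · exact ⟨_, _, _, _, _, pY, qY, hPY, pullback.lift_fst _ _ _, pullback.lift_snd _ _ _,
          isPullback_diag_pair hPX hPY c hc₁ hc₂, hc⟩
      · exact ⟨_, _, _, _, _, _, _, IsPullback.of_hasPullback (j ≫ g) (j ≫ g),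
          pullback.lift_fst _ _ _, pullback.lift_snd _ _ _,
          isPullback_diag_pair (IsKernelPair.id_of_mono j) (IsPullback.of_hasPullback (j ≫ g) (j ≫ g))
            (pullback.diagonal (j ≫ g)) (pullback.diagonal_fst _) (pullback.diagonal_snd _), hU⟩
    obtain ⟨H, R, m', r', b', h₁, h₂, hH, e₁, e₂, sq, hb'⟩ := key
    have hcond : (pullback.fst ((p kl.1 ≫ a kl.1) ≫ g) ((p kl.2 ≫ a kl.2) ≫ g) ≫ p kl.1) ≫ a kl.1 ≫ g =
        (pullback.snd _ _ ≫ p kl.2) ≫ a kl.2 ≫ g := by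
      have := pullback.condition (f := (p kl.1 ≫ a kl.1) ≫ g) (g := (p kl.2 ≫ a kl.2) ≫ g)
      simp only [Category.assoc] at this ⊢
      exact this
    refine ⟨H, R, r kl ≫ hH.lift _ _ hcond, m', r', b', ?_, sq, hb'⟩
    rw [Category.assoc]
    congr 1
    apply pullback.hom_ext
    · simp only [Category.assoc, e₁, hH.lift_fst_assoc, m, pullback.lift_fst]
    · simp only [Category.assoc, e₂, hH.lift_snd_assoc, m, pullback.lift_snd]

end Groth.Agent.DistSq15
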